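import Groth.Agent.HilbSCLib.Descent
import Groth.Agent.PicPnLib.BaseChange
import Groth.Agent.MumfordLib.Main
import Mathlib.RingTheory.LittleWedderburn

/-!
# Coherent modules on projective space over an algebraic extension of a finite field
-/

set_option autoImplicit false
set_option linter.style.haveILetI false
universe u

open CategoryTheory CategoryTheory.Limits AlgebraicGeometry TopologicalSpace RichLib.LimBC ConsLib

noncomputable section

namespace FpTorsLib

attribute [local instance] ConsLib.zAlgebra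

variable (p : ℕ) [Fact p.Prime] (k : Type u) [Field k] [CharP k p]

/-- Finitely generated subrings are finite. -/
theorem finite_of_fg (halg : ∀ x : k, ∃ n : ℕ, 0 < n ∧ x ^ (p ^ n) = x) (B : Subalgebra (ULift.{u} ℤ) k)
    (hB : B.FG) : Finite B := by
  obtain ⟨t, ht⟩ := hB
  choose n hn hx using halg
  let N := ∏ x ∈ t, n x
  have hNpos : 0 < N := Finset.prod_pos fun x _ => hn x
  have hfix : ∀ x ∈ t, (iterateFrobenius k p N) x = x := fun x hxt => by
    obtain ⟨c, hc⟩ := Finset.dvd_prod_of_mem n hxt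
    have h : ∀ j, x ^ (p ^ (n x * j)) = x := fun j => by
      induction j with
      | zero => simp
      | succ j ih => rw [Nat.mul_succ, pow_add, pow_mul, ih, hx x]
    rw [iterateFrobenius_def]
    show x ^ p ^ (∏ y ∈ t, n y) = x
    rw [hc]; exact h c
  have hle : (B : Set k) ⊆ {x | iterateFrobenius k p N x = x} := by
    intro x hxB
    have hx' : x ∈ Algebra.adjoin (ULift.{u} ℤ) (t : Set k) := ht ▸ hxB
    induction hx' using Algebra.adjoin_induction with
    | mem w hw => exact hfix w hw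
    | algebraMap r =>
      show iterateFrobenius k p N ((Int.castRingHom k) r.down) = (Int.castRingHom k) r.down
      simp
    | add a b _ _ ha hb =>
      show iterateFrobenius k p N (a + b) = a + b
      rw [map_add, ha (ht ▸ ‹_›), hb (ht ▸ ‹_›)]
    | mul a b _ _ ha hb =>
      show iterateFrobenius k p N (a * b) = a * b
      rw [map_mul, ha (ht ▸ ‹_›), hb (ht ▸ ‹_›)]
  have hpN : 1 < p ^ N := one_lt_pow₀ (Fact.out : p.Prime).one_lt hNpos.ne'
  have hne : (Polynomial.X ^ (p ^ N) - Polynomial.X : Polynomial k) ≠ 0 := FiniteField.X_pow_card_sub_X_ne_zero k hpN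
  have hfin : {x : k | iterateFrobenius k p N x = x}.Finite := by
    refine (Polynomial.finite_setOf_isRoot hne).subset fun x hx => ?_
    simp only [Set.mem_setOf_eq, iterateFrobenius_def] at hx
    simp [Polynomial.IsRoot, hx]
  exact (hfin.subset hle).to_subtype

variable (n : ℕ)

/-- The pullback square between `P^n_R` and `P^n_{Spec R}`. -/
theorem exists_over_iso (R : Type u) [CommRing R] :
    ∃ e : CohB1.ProjSpace n R ≅ CohB1.ProjSpaceOver n (Spec (CommRingCat.of R)),
      e.hom ≫ CohB1.ProjSpaceOver.toBase n (Spec (CommRingCat.of R)) = CohB1.ProjSpace.toSpec n R ∧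
      ∀ d : ℤ, Nonempty ((Scheme.Modules.pullback (e.hom ≫ pullback.fst _ _)).obj
        (Twist.twistProjSpace n (ULift.{u} ℤ) d) ≅ Twist.twistProjSpace n R d) := by
  obtain ⟨q, hq, hd⟩ := PicPnLib.exists_map n R
  refine ⟨hq.isoPullback, hq.isoPullback_hom_snd, fun d => ?_⟩
  obtain ⟨a⟩ := hd d
  exact ⟨(Scheme.Modules.pullbackCongr hq.isoPullback_hom_fst).app _ ≪≫ a⟩

/-- A coherent module on projective space is defined over a finite field. -/
theorem exists_finite_model (halg : ∀ x : k, ∃ n : ℕ, 0 < n ∧ x ^ (p ^ n) = x)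
    (F : (CohB1.ProjSpace n k).Modules) (hF : Coh.IsCoh F) :
    ∃ (k₀ : Type u) (_ : Field k₀) (_ : Finite k₀) (_ : Algebra k₀ k)
      (g : CohB1.ProjSpace n k ⟶ CohB1.ProjSpace n k₀) (G : (CohB1.ProjSpace n k₀).Modules),
      IsPullback g (CohB1.ProjSpace.toSpec n k) (CohB1.ProjSpace.toSpec n k₀)
        (Spec.map (CommRingCat.ofHom (algebraMap k₀ k))) ∧
      (∀ d : ℤ, Nonempty ((Scheme.Modules.pullback g).obj (Twist.twistProjSpace n k₀ d) ≅ Twist.twistProjSpace n k d)) ∧
      Coh.IsCoh G ∧ Nonempty ((Scheme.Modules.pullback g).obj G ≅ F) := by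
  classical
  haveI := MumfordLib.isProper_projSpace (n := n) k
  haveI := CurvLib.isNoetherian k (X := CohB1.ProjSpace n k)
  obtain ⟨e, he, hed⟩ := exists_over_iso n k
  let F' := (Scheme.Modules.pullback e.inv).obj F
  haveI : IsNoetherian (CohB1.ProjSpaceOver n (Spec (CommRingCat.of k))) :=
    ConsLib.isNoetherian_of_ft e.inv
  have hF' : Coh.IsCoh F' := ConsLib.isCoh_pullback _ hF
  haveI : Coh.IsQCoh F' := hF'.1
  have hFP : CohB1.IsFP F' := QCohLib.isFP_of_isCoh F' hF'
  let A' := zSys k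
  haveI : ∀ i j (a : i ⟶ j), IsAffineHom (A'.D.map a) := fun _ _ a => A'.affine_map a
  haveI : ∀ i, IsNoetherian (A'.D.obj i) := fun i => zSys_obj _ i
  obtain ⟨i⟩ : Nonempty (FGSub (ULift.{u} ℤ) k)ᵒᵖ := IsCofiltered.nonempty
  let π : ∀ j, Spec (CommRingCat.of k) ⟶ A'.D.obj j := fun j => A'.c.π.app j
  let Z := ofStage A'.D A'.c A'.hc i
  let q := CohB1.ProjSpaceOver.toBase n (A'.D.obj i)
  haveI : IsProper q := ChowLib.isProper_toBase n _
  let B := pb Z q
  haveI : ∀ k' l (b : k' ⟶ l), IsAffineHom (B.D.map b) := fun _ _ b => B.affine_map b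
  haveI : ∀ φ : Over i, IsNoetherian (B.D.obj φ) := fun φ =>
    @ConsLib.isNoetherian_of_ft _ _ (pullback.snd q (A'.D.map φ.hom)) (zSys_obj _ φ.left)
      (MorphismProperty.pullback_snd _ _ inferInstance) (MorphismProperty.pullback_snd _ _ inferInstance)
  let eY := (QuotSchLib.isPullback_projMap (n := n) (π i)).isoPullback
  let c' : Cone B.D := B.c.extend eY.hom
  have hc' : IsLimit c' := B.hc.ofIsoLimit (Cone.ext eY.symm (fun φ => by
    simp [c', Cone.extend]))
  obtain ⟨φ, G, hG, ⟨eG⟩⟩ := ModDescLib.exists_coh_pullback (c := c') hc' F'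
    fun y => FlatLib.exists_presentation_nhd hFP y
  let sq := QuotSchLib.isPullback_projMap (n := n) (A'.D.map φ.hom)
  let e' := sq.isoPullback
  -- the finite field
  let k₀ := ↥φ.left.unop.1
  haveI : Finite k₀ := finite_of_fg p k halg φ.left.unop.1 φ.left.unop.2
  letI : Field k₀ := Finite.isDomain_to_isField k₀ |>.toField
  obtain ⟨e₀, he₀, he₀d⟩ := exists_over_iso n k₀
  let g := e.hom ≫ FGA.projMap n (π φ.left) ≫ e₀.inv
  letI : Algebra k₀ k := φ.left.unop.1.val.toRingHom.toAlgebra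
  have hg : ∀ {W : Scheme.{u}} (x : CohB1.ProjSpaceOver n (Spec (CommRingCat.of k₀)) ⟶ W),
      g ≫ e₀.hom ≫ x = e.hom ≫ FGA.projMap n (π φ.left) ≫ x := fun x =>
    (Category.assoc _ _ _).trans (congrArg (e.hom ≫ ·)
      ((Category.assoc _ _ _).trans (congrArg (FGA.projMap n (π φ.left) ≫ ·) (e₀.inv_hom_id_assoc x))))
  refine ⟨k₀, inferInstance, inferInstance, inferInstance, g,
    (Scheme.Modules.pullback (e₀.hom ≫ e'.hom)).obj G, ?_, fun d => ?_, ConsLib.isCoh_pullback _ hG, ⟨?_⟩⟩
  · exact (QuotSchLib.isPullback_projMap (n := n) (π φ.left)).of_iso e.symm e₀.symm (Iso.refl _) (Iso.refl _)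
      (by simp [g]) (by rw [Iso.refl_hom, Category.comp_id, Iso.symm_hom, ← he, Iso.inv_hom_id_assoc])
      ((Category.comp_id _).trans ((Iso.eq_inv_comp e₀).2 he₀))
      (by simp; rfl)
  · obtain ⟨a⟩ := hed d
    obtain ⟨a₀⟩ := he₀d d
    exact ⟨(Scheme.Modules.pullback g).mapIso a₀.symm ≪≫ (Scheme.Modules.pullbackComp g _).app _ ≪≫
      (Scheme.Modules.pullbackCongr (show g ≫ e₀.hom ≫ pullback.fst _ _ = e.hom ≫ pullback.fst _ _ by
        exact (hg _).trans (congrArg (e.hom ≫ ·) (QuotSchLib.projMap_fst (π φ.left))))).app _ ≪≫ a⟩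
  · have hcomp : FGA.projMap n (π φ.left) ≫ e'.hom = eY.hom ≫ pbπ Z q φ := by
      refine pullback.hom_ext (f := q) (g := A'.D.map φ.hom) ?_ ?_
      · rw [Category.assoc, sq.isoPullback_hom_fst, QuotSchLib.projMap_comp]
        refine Eq.trans ?_ (((Category.assoc _ _ _).trans (congrArg (eY.hom ≫ ·) (pbπ_fst Z q φ))).trans
          (QuotSchLib.isPullback_projMap (n := n) (π i)).isoPullback_hom_fst).symm
        exact congrArg (FGA.projMap n) (A'.c.w φ.hom)
      · rw [Category.assoc, sq.isoPullback_hom_snd, (QuotSchLib.isPullback_projMap (n := n) (π φ.left)).w]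
        refine (((Category.assoc _ _ _).trans (congrArg (eY.hom ≫ ·) (pbπ_snd Z q φ))).trans
          ((Category.assoc _ _ _).symm.trans (congrArg (· ≫ Z.c.π.app φ)
            (QuotSchLib.isPullback_projMap (n := n) (π i)).isoPullback_hom_snd))).symm
    exact (Scheme.Modules.pullbackComp _ _).app G ≪≫
      (Scheme.Modules.pullbackCongr (show g ≫ e₀.hom ≫ e'.hom = e.hom ≫ c'.π.app φ by
        exact (hg _).trans (congrArg (e.hom ≫ ·) hcomp))).app G ≪≫
      ((Scheme.Modules.pullbackComp e.hom (c'.π.app φ)).app G).symm ≪≫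
      (Scheme.Modules.pullback e.hom).mapIso eG ≪≫ (Scheme.Modules.pullbackComp e.hom e.inv).app F ≪≫
      (Scheme.Modules.pullbackCongr e.hom_inv_id).app F ≪≫ (Scheme.Modules.pullbackId _).app F

end FpTorsLib

end
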