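import Mathlib.Algebra.Algebra.ZMod
import Mathlib.FieldTheory.Finite.Basic
import Mathlib.FieldTheory.IntermediateField.Adjoin.Basic
import Mathlib.RingTheory.Algebraic.Integral
import Mathlib.FieldTheory.Finiteness

/-!
# Algebraic extensions of finite prime fields
-/

set_option autoImplicit false
universe u v

noncomputable section

namespace FpTorsLib

/-- Being algebraic over the prime field passes to algebraic extensions. -/
theorem halg_of_algebraic (p : ℕ) [Fact p.Prime] (k : Type u) [Field k] [CharP k p]
    (halg : ∀ x : k, ∃ n : ℕ, 0 < n ∧ x ^ (p ^ n) = x) (K : Type v) [Field K] [Algebra k K]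
    [Algebra.IsAlgebraic k K] (x : K) : ∃ n : ℕ, 0 < n ∧ x ^ (p ^ n) = x := by
  haveI : CharP K p := charP_of_injective_algebraMap (algebraMap k K).injective p
  letI := ZMod.algebra k p
  letI := ZMod.algebra K p
  haveI : IsScalarTower (ZMod p) k K := .of_algebraMap_eq' (RingHom.ext_zmod _ _)
  haveI : Algebra.IsAlgebraic (ZMod p) k := ⟨fun y => by
    obtain ⟨n, hn, hy⟩ := halg y
    exact ⟨Polynomial.X ^ (p ^ n) - Polynomial.X,
      FiniteField.X_pow_card_sub_X_ne_zero (ZMod p) (one_lt_pow₀ (Fact.out : p.Prime).one_lt hn.ne'),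
      by simp [hy]⟩⟩
  haveI : Algebra.IsAlgebraic (ZMod p) K := Algebra.IsAlgebraic.trans (ZMod p) k K
  let F := IntermediateField.adjoin (ZMod p) ({x} : Set K)
  haveI : FiniteDimensional (ZMod p) F :=
    IntermediateField.adjoin.finiteDimensional (Algebra.IsIntegral.isIntegral x)
  haveI : Finite F := Module.finite_of_finite (ZMod p)
  haveI := Fintype.ofFinite F
  refine ⟨Module.finrank (ZMod p) F, Module.finrank_pos, ?_⟩
  have h := FiniteField.pow_card (⟨x, IntermediateField.mem_adjoin_simple_self _ x⟩ : F)
  rw [Fintype.card_eq_nat_card, Module.natCard_eq_pow_finrank (K := ZMod p), Nat.card_zmod] at h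
  exact congrArg Subtype.val h

end FpTorsLib

end
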