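import Groth.Agent.MumfordLib.Main
import Groth.Agent.S1647
import Groth.Agent.PnCohLib.HypSec
import Groth.Agent.AmpleThLib.Pow
import Groth.Agent.DegPullLib.H0
import Groth.Agent.SerreVanLib.TwTensor
import Mathlib.FieldTheory.Finiteness

/-!
# Finitely many regular coherent modules with a given Hilbert function over a finite field
-/

set_option autoImplicit false
set_option linter.style.haveILetI false
set_option maxHeartbeats 1000000
universe u

open CategoryTheory CategoryTheory.Limits AlgebraicGeometry TopologicalSpace Opposite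

noncomputable section

namespace FpTorsLib

variable (k : Type u) [Field k] [Finite k] (n : ℕ)

local notation "P" => CohB1.ProjSpace n k
local notation "O'" => Twist.twistProjSpace n k

/-- Homomorphisms out of `O` are the global sections. -/
theorem exists_homEquiv {X : Scheme.{u}} (M : X.Modules) :
    Nonempty ((Coh.structureModule X ⟶ M) ≃ Γ(M, ⊤)) := by
  refine ⟨⟨fun φ => φ.app ⊤ (1 : Γ(X, ⊤)), fun σ => QCohLib.unitHom M σ, fun φ => (AmpleThLib.unitHom_eq φ).symm,
    fun σ => ?_⟩⟩
  refine (QCohLib.unitHom_app M σ ⊤ 1).trans ((one_smul _ _).trans ?_)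
  exact AmpleLib.res_refl M σ

/-- The homomorphisms from `O` to a coherent module are finite in number. -/
theorem finite_hom {F : (P).Modules} (hF : Coh.IsCoh F) :
    Finite (Coh.structureModule (P) ⟶ F) ∧
      Nat.card (Coh.structureModule (P) ⟶ F) = Nat.card k ^ Module.finrank k (Coh.HH (P) F 0) := by
  haveI := MumfordLib.isProper_projSpace (n := n) k
  haveI := CurvLib.finite_HH (k := k) hF 0
  obtain ⟨e⟩ := exists_homEquiv F
  let e' := e.trans (DegPullLib.e0 F).symm.toEquiv
  haveI : Finite (Coh.HH (P) F 0) := Module.finite_of_finite k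
  exact ⟨Finite.of_equiv _ e'.symm, (Nat.card_congr e').trans (Module.natCard_eq_pow_finrank (K := k))⟩

/-- Maps from free modules onto a globally generated module. -/
theorem exists_epi_of_gg {X : Scheme.{u}} {F : X.Modules} (hgg : Curv2.IsGloballyGenerated F) {r : ℕ}
    (s : Fin r → (Coh.structureModule X ⟶ F)) (hs : Function.Surjective s) : Epi (Sigma.desc s) := by
  obtain ⟨ι, p, hp⟩ := hgg
  choose j hj using fun a : ι => hs (SheafOfModules.ιFree (R := X.ringCatSheaf) a ≫ p)
  let q : (SheafOfModules.free (R := X.ringCatSheaf) ι : X.Modules) ⟶ ∐ fun _ : Fin r => Coh.structureModule X :=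
    Cofan.IsColimit.desc (SheafOfModules.isColimitFreeCofan ι) fun a => Sigma.ι (fun _ : Fin r => Coh.structureModule X) (j a)
  have hq : q ≫ Sigma.desc s = p := Cofan.IsColimit.hom_ext (SheafOfModules.isColimitFreeCofan ι) _ _ fun a => by
    exact (Category.assoc _ _ _).symm.trans ((congrArg (· ≫ Sigma.desc s) (Cofan.IsColimit.fac _ _ _)).trans
      ((Sigma.ι_desc _ _).trans (hj a)))
  exact @epi_of_epi _ _ _ _ _ q (Sigma.desc s) (hq.symm ▸ hp)

variable {k n}

/-- Regular modules with Hilbert function `g` are cokernels of finitely many maps, up to a twist. -/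
theorem exists_finite_params (m : ℤ) (g : ℤ → ℤ) :
    ∃ (c : ℤ) (T : Type u) (_ : Finite T) (Q : T → (P).Modules), ∀ G : (P).Modules, Coh.IsCoh G →
      Curv2.IsMRegular k n G m → (∀ t, Curv2.euler k (P) (CohB1.tensorMod G (O' t)) = g t) →
        ∃ a, Nonempty (CohB1.tensorMod G (O' c) ≅ Q a) := by
  classical
  haveI := MumfordLib.isProper_projSpace (n := n) k
  haveI := CurvLib.isNoetherian k (X := P)
  let r := Nat.card k ^ (g m).toNat
  let M₁ := MumfordLib.bound r (n + 1) (fun t => MumfordLib.sec r (n + 1) t - g (m + t))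
  let W := CohB1.tensorMod (FlatMod.freeMod (P) r) (O' M₁)
  have hW : Coh.IsCoh W := SerreVanLib.isCoh_tensor (MumfordLib.freeMod_data k r).1 (PicPnLib.twist_inv n k M₁)
  haveI := (finite_hom k n hW).1
  let I := Coh.structureModule (P) ⟶ W
  let nA : Set I → ℕ := fun A => Nat.card A
  let ψ : ∀ A : Set I, FlatMod.freeMod (P) (nA A) ⟶ W := fun A =>
    Sigma.desc fun j => ((Finite.equivFin A).symm j).1
  refine ⟨m + M₁, Set I, inferInstance, fun A => cokernel (ψ A), fun G hG hreg hχ => ?_⟩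
  haveI := hG.1
  let G' := CohB1.tensorMod G (O' m)
  have hG' : Coh.IsCoh G' := SerreVanLib.isCoh_tensor hG (PicPnLib.twist_inv n k m)
  haveI := hG'.1
  have hgg : Curv2.IsGloballyGenerated G' := Groth.Agent.S1647.result k n G hG m hreg
  have hv : ∀ q, 1 ≤ q → Subsingleton (Coh.HH (P) G' q) := fun q hq =>
    PnCohLib.vanishing_ge k G hG.1 m hreg q hq m (by omega)
  obtain ⟨hfin, hcard⟩ := finite_hom k n hG'
  haveI := hfin
  have hr : Nat.card (Coh.structureModule (P) ⟶ G') = r := by
    rw [hcard, show Module.finrank k (Coh.HH (P) G' 0) = (g m).toNat by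
      rw [← hχ m, CurvLib.euler_eq_finrank hv, Int.toNat_natCast]]
  let s : Fin r → (Coh.structureModule (P) ⟶ G') := (Finite.equivFinOfCardEq hr).symm
  let φ : FlatMod.freeMod (P) r ⟶ G' := Sigma.desc s
  haveI : Epi φ := exists_epi_of_gg hgg s (Equiv.surjective _)
  have hg' : ∀ t, MumfordLib.chi k G' t = g (m + t) := fun t => by
    obtain ⟨e⟩ := PicPnLib.twist_add n k m t
    rw [MumfordLib.chi_eq_euler, CurvLib.euler_congr (HilbPolyLib.assocIso G _ _ ≪≫ HilbPolyLib.congrRight G e), hχ]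
  let K := kernel φ
  have hF := (MumfordLib.freeMod_data (n := n) k r).1
  have hK : Coh.IsCoh K := QCohLib.isCoh_kernel φ hF hG'.1
  have hKreg : Curv2.IsMRegular k n K M₁ := fun i hi _ =>
    MumfordLib.subsingleton_of_quot k r G' hG' φ (fun t => g (m + t)) hg' M₁ le_rfl i hi
  let K' := CohB1.tensorMod K (O' M₁)
  have hK' : Coh.IsCoh K' := SerreVanLib.isCoh_tensor hK (PicPnLib.twist_inv n k M₁)
  have hKgg : Curv2.IsGloballyGenerated K' := Groth.Agent.S1647.result k n K hK M₁ hKreg
  let S : ShortComplex (P).Modules := ShortComplex.mk (kernel.ι φ) φ (kernel.condition φ)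
  have hS : S.ShortExact := ShortComplex.ShortExact.mk (ShortComplex.exact_kernel φ)
  let U := S.map (CurvLib.tensorLeft' (O' M₁))
  have hU : U.ShortExact := HilbPolyLib.shortExact_tensor (PicPnLib.twist_inv n k M₁) hS
  obtain ⟨e⟩ := PicPnLib.twist_add n k m M₁
  let e₁ : U.X₁ ≅ K' := HilbPolyLib.swapIso _ _
  let e₂ : U.X₂ ≅ W := HilbPolyLib.swapIso _ _
  let e₃ : U.X₃ ≅ CohB1.tensorMod G (O' (m + M₁)) :=
    HilbPolyLib.swapIso _ G' ≪≫ HilbPolyLib.assocIso G _ _ ≪≫ HilbPolyLib.congrRight G e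
  let u : K' ⟶ W := e₁.inv ≫ U.f ≫ e₂.hom
  let A : Set I := Set.range fun a : Coh.structureModule (P) ⟶ K' => a ≫ u
  choose b hb using fun j : Fin (nA A) => ((Finite.equivFin A).symm j).2
  have hb' : ∀ j, b j ≫ u = ((Finite.equivFin A).symm j).1 := hb
  haveI := hU.mono_f
  haveI : Mono u := mono_comp _ _
  let q : FlatMod.freeMod (P) (nA A) ⟶ K' := Sigma.desc b
  haveI : Epi q := exists_epi_of_gg hKgg b fun a => ⟨Finite.equivFin A ⟨a ≫ u, a, rfl⟩, (cancel_mono u).mp
    ((hb' _).trans (congrArg Subtype.val (Equiv.symm_apply_apply _ _)))⟩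
  have hψ : ψ A = q ≫ u := Sigma.hom_ext _ _ fun j => by
    rw [Sigma.ι_desc, Sigma.ι_desc_assoc, hb']
  refine ⟨A, ⟨?_⟩⟩
  exact e₃.symm ≪≫ (hU.gIsCokernel.coconePointUniqueUpToIso (cokernelIsCokernel U.f)) ≪≫
    (cokernelEpiComp e₁.inv U.f).symm ≪≫ (cokernelCompIsIso (e₁.inv ≫ U.f) e₂.hom).symm ≪≫
    cokernelIsoOfEq (Category.assoc _ _ _) ≪≫ (cokernelEpiComp q u).symm ≪≫ cokernelIsoOfEq hψ.symm

end FpTorsLib

end
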