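import Groth.Agent.FpTorsLib.Proj
import Groth.Agent.ChowLib.ChowAll
import Groth.Agent.LichtLib.ProjOver
import Groth.Agent.MiscFlat6.NormalLowDim
import Groth.Agent.CycP1Lib.Graph
import Groth.Agent.EulerRpushLib.Exceptional
import Groth.Agent.DescAppLib.LineApps
import Groth.Agent.CubeLib.Clopen
import Groth.Agent.S2422

/-!
# Numerically trivial classes on normal proper schemes over algebraic extensions of finite fields

The integral case follows from the projective case with Chow's lemma, as `π_*O = O` for a proper birational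
morphism to a normal scheme; the components of a normal scheme are clopen.
-/

set_option autoImplicit false
set_option linter.style.haveILetI false
set_option maxHeartbeats 1000000
universe u

open CategoryTheory CategoryTheory.Limits AlgebraicGeometry TopologicalSpace Opposite
open KFlatLib (pb)
open CubeConsLib (cl pull)

noncomputable section

namespace FpTorsLib

variable (p : ℕ) [Fact p.Prime] (k : Type u) [Field k] [IsAlgClosed k] [CharP k p]

/-- Numerically trivial modules on a normal integral proper scheme have finite order. -/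
theorem exists_pow_trivial_integral (halg : ∀ x : k, ∃ n : ℕ, 0 < n ∧ x ^ (p ^ n) = x) {V : Scheme.{u}}
    [V.Over (Spec (CommRingCat.of k))] [IsProper (V ↘ Spec (CommRingCat.of k))] [IsIntegral V]
    (hV : Pi1.IsNormalScheme V) {L : V.Modules} (hL : NumTrivLib.NT k L) :
    ∃ d : ℕ, 0 < d ∧ Nonempty (CohB1.tensorPow L d ≅ Coh.structureModule V) := by
  haveI := CurvLib.isNoetherian k (X := V)
  obtain ⟨n, Z, π, j, hj, hjb, ⟨e', he', heb⟩, W, hW, hπW⟩ := ChowLib.chow_open (V ↘ Spec (CommRingCat.of k))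
  haveI := hj
  haveI := he'
  haveI : IsProper π := heb ▸ inferInstance
  letI : Z.Over (Spec (CommRingCat.of k)) := ⟨π ≫ (V ↘ Spec (CommRingCat.of k))⟩
  haveI : IsProper (Z ↘ Spec (CommRingCat.of k)) := inferInstanceAs (IsProper (π ≫ _))
  haveI : IsProper (j ≫ CohB1.ProjSpaceOver.toBase n (Spec (CommRingCat.of k))) := hjb ▸ inferInstance
  haveI : IsProper j := IsProper.of_comp j (CohB1.ProjSpaceOver.toBase n (Spec (CommRingCat.of k)))
  haveI : IsClosedImmersion j := .of_isPreimmersion _ j.isClosedMap.isClosed_range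
  obtain ⟨e, he⟩ := LichtLib.exists_iso_over n k
  have hi : (j ≫ e.inv) ≫ CohB1.ProjSpace.toSpec n k = Z ↘ Spec (CommRingCat.of k) := by
    rw [Category.assoc, ← he, e.inv_hom_id_assoc]
    exact hjb
  haveI := CurvLib.isNoetherian k (X := Z)
  haveI := hπW
  -- the closure of the part over `W`
  let W' : Z.Opens := π ⁻¹ᵁ W
  haveI : Nonempty W.toScheme := ⟨⟨hW.some, hW.some_mem⟩⟩
  haveI : IsIntegral W.toScheme := inferInstance
  haveI : IsIntegral W'.toScheme := by
    haveI : Nonempty W'.toScheme := ⟨inv (π ∣_ W) (Classical.arbitrary _)⟩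
    exact isIntegral_of_isOpenImmersion (π ∣_ W)
  haveI : IsIntegral W'.ι.image := CycP1Lib.isIntegral_image W'.ι
  let Z' := W'.ι.image
  let π' : Z' ⟶ V := W'.ι.imageι ≫ π
  letI : Z'.Over (Spec (CommRingCat.of k)) := ⟨π' ≫ (V ↘ Spec (CommRingCat.of k))⟩
  haveI : IsProper π' := inferInstanceAs (IsProper (W'.ι.imageι ≫ π))
  haveI : IsProper (Z' ↘ Spec (CommRingCat.of k)) := inferInstanceAs (IsProper (π' ≫ _))
  haveI := CurvLib.isNoetherian k (X := Z')
  have hi' : (W'.ι.imageι ≫ j ≫ e.inv) ≫ CohB1.ProjSpace.toSpec n k = Z' ↘ Spec (CommRingCat.of k) := by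
    rw [Category.assoc, hi]
    exact (Category.assoc _ _ _).symm
  obtain ⟨d, hd, ⟨eL⟩⟩ := exists_pow_trivial_proj p k halg (W'.ι.imageι ≫ j ≫ e.inv) hi'
    (hL.pullback (g := π') rfl)
  -- the map is birational
  have hz : W'.ι.imageι (genericPoint Z') ∈ W' := by
    rw [CycP1Lib.imageι_genericPoint W'.ι]
    exact (genericPoint W'.toScheme).2
  have hη : π' (genericPoint Z') = genericPoint V := by
    have h1 : π' (genericPoint Z') = π (W'.ι (genericPoint W'.toScheme)) :=
      congrArg π (CycP1Lib.imageι_genericPoint W'.ι)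
    rw [h1, ← genericPoint_eq_of_isOpenImmersion W.ι, ← genericPoint_eq_of_isOpenImmersion (π ∣_ W),
      ← Scheme.Hom.comp_apply, ← Scheme.Hom.comp_apply, morphismRestrict_ι]
  have hdom : π'.base (genericPoint Z') ⤳ genericPoint V := specializes_of_eq hη
  have hsur : Function.Surjective (CohIII.stalkToFunctionField π' (genericPoint V) hdom) := by
    haveI := EulerRpushLib.isIso_stalkMap_of_restrict π W
      (show W'.ι.imageι (genericPoint Z') ∈ π ⁻¹ᵁ W from hz)
    have h1 : Function.Surjective (π'.stalkMap (genericPoint Z')) := by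
      rw [Scheme.Hom.stalkMap_comp]
      exact (W'.ι.imageι.stalkMap_surjective _).comp (ConcreteCategory.bijective_of_isIso (π.stalkMap _)).2
    haveI : IsIso (V.presheaf.stalkSpecializes hdom) := by
      have aux : ∀ (q : V) (e : π' (genericPoint Z') = q) (h : π'.base (genericPoint Z') ⤳ q),
          IsIso (V.presheaf.stalkSpecializes h) := by
        rintro q rfl h
        rw [TopCat.Presheaf.stalkSpecializes_refl]
        infer_instance
      exact aux _ hη hdom
    exact h1.comp (ConcreteCategory.bijective_of_isIso (V.presheaf.stalkSpecializes hdom)).2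
  have hf : ∀ U : V.Opens, Function.Bijective (π'.app U) := fun U => by
    haveI := Groth.Agent.S2422.result hV π' hdom (fun x _ => hsur x) U
    exact ConcreteCategory.bijective_of_isIso (π'.app U)
  refine ⟨d, hd, DescAppLib.nonempty_iso_of_pullback_trivial π' hf _ (AmpleThLib.tensorPow_isInvertible hL.inv d)
    (CubeConsLib.cl_eq_one_iff.1 ?_)⟩
  rw [← CubeConsLib.pull_cl, NumTrivLib.cl_tensorPow, map_pow, CubeConsLib.pull_cl, ← NumTrivLib.cl_tensorPow]
  exact CubeConsLib.cl_eq_one_iff.2 ⟨eL⟩

/-- Numerically trivial modules on a normal proper scheme have finite order. -/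
theorem exists_pow_trivial (halg : ∀ x : k, ∃ n : ℕ, 0 < n ∧ x ^ (p ^ n) = x) {X : Scheme.{u}}
    [X.Over (Spec (CommRingCat.of k))] [IsProper (X ↘ Spec (CommRingCat.of k))]
    (hX : Pi1.IsNormalScheme X) {L : X.Modules} (hL : NumTrivLib.NT k L) :
    ∃ d : ℕ, 0 < d ∧ Nonempty (CohB1.tensorPow L d ≅ Coh.structureModule X) := by
  classical
  haveI := CurvLib.isNoetherian k (X := X)
  haveI : ∀ x : X, _root_.IsReduced (X.presheaf.stalk x) := fun x => by
    haveI := (hX x).1
    infer_instance
  haveI : IsReduced X := isReduced_of_isReduced_stalk X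
  obtain ⟨hopn, hdis⟩ := MiscFlat6.components_of_normal X
    (fun U _ => @NoetherianSpace.finite_irreducibleComponents _ _ U.isOpenEmbedding.isInducing.noetherianSpace) hX
  let I := {Z : Set X // Z ∈ irreducibleComponents X}
  haveI : Finite I := NoetherianSpace.finite_irreducibleComponents.to_subtype
  haveI := Fintype.ofFinite I
  let U : I → X.Opens := fun Z => ⟨Z.1, hopn Z.1 Z.2⟩
  have hU : ∀ Z : I, ∃ d : ℕ, 0 < d ∧
      Nonempty (CohB1.tensorPow (pb (U Z).ι L) d ≅ Coh.structureModule (U Z).toScheme) := by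
    intro Z
    haveI : IrreducibleSpace (U Z).toScheme := Subtype.irreducibleSpace (X := X) Z.2.1
    haveI : IsIntegral (U Z).toScheme := isIntegral_of_irreducibleSpace_of_isReduced _
    haveI : IsClosedImmersion (U Z).ι := .of_isPreimmersion _ (by
      rw [Scheme.Opens.range_ι]
      exact isClosed_of_mem_irreducibleComponents Z.1 Z.2)
    letI : (U Z).toScheme.Over (Spec (CommRingCat.of k)) := ⟨(U Z).ι ≫ (X ↘ Spec (CommRingCat.of k))⟩
    haveI : IsProper ((U Z).toScheme ↘ Spec (CommRingCat.of k)) := inferInstanceAs (IsProper ((U Z).ι ≫ _))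
    exact exists_pow_trivial_integral p k halg (fun x => by
      let e := (asIso ((U Z).ι.stalkMap x)).commRingCatIsoToRingEquiv
      haveI := (hX ((U Z).ι x)).1
      haveI := (hX ((U Z).ι x)).2
      exact ⟨e.toMulEquiv.isDomain_iff.mp inferInstance, IsIntegrallyClosed.of_equiv e⟩)
      (hL.pullback (g := (U Z).ι) rfl)
  choose d hd hiso using hU
  refine ⟨∏ Z, d Z, Finset.prod_pos fun Z _ => hd Z, ?_⟩
  set M := CohB1.tensorPow L (∏ Z, d Z)
  have hM : ∀ Z, ∃ e : Γ(M, U Z), AmpleLib.GenOn M e := fun Z => by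
    obtain ⟨c, hc⟩ := Finset.dvd_prod_of_mem d (Finset.mem_univ Z)
    refine CubeLib.exists_genOn_of_restrict ?_
    have h : Nonempty (pb (U Z).ι M ≅ Coh.structureModule (U Z).toScheme) := by
      refine CubeConsLib.cl_eq_one_iff.1 ?_
      rw [← CubeConsLib.pull_cl, NumTrivLib.cl_tensorPow, map_pow, CubeConsLib.pull_cl, hc, pow_mul,
        ← NumTrivLib.cl_tensorPow, CubeConsLib.cl_eq_one_iff.2 (hiso Z), one_pow]
    exact ⟨(Scheme.Modules.restrictFunctorIsoPullback _).app M ≪≫ h.some⟩
  choose e he using hM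
  have hcov : ∀ x : X, ∃ Z, x ∈ U Z := fun x =>
    ⟨⟨irreducibleComponent x, irreducibleComponent_mem_irreducibleComponents x⟩, mem_irreducibleComponent⟩
  obtain ⟨s, hs, -⟩ := CubeLib.trivial_of_compatible U hcov e he fun Z Z' => by
    rcases eq_or_ne Z Z' with rfl | hne
    · rfl
    · have hb : U Z ⊓ U Z' = ⊥ := Opens.ext (Set.disjoint_iff_inter_eq_empty.mp
        (hdis Z.1 Z.2 Z'.1 Z'.2 fun h => hne (Subtype.ext h)))
      have : Subsingleton Γ(M, (⊥ : X.Opens)) :=
        AddCommGrpCat.subsingleton_of_isZero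
          (TopCat.Sheaf.isTerminalOfEmpty ((QCohLib.toAbF X).obj M)).isZero
      exact (hb ▸ this : Subsingleton Γ(M, U Z ⊓ U Z')).elim _ _
  exact CubeLib.trivial_of_genOn_top hs

end FpTorsLib

end
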