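import Groth.Agent.FpTorsLib.Descent
import Groth.Agent.FpTorsLib.Finite
import Groth.Agent.NumTrivLib.BoundedProj
import Groth.Agent.NumTrivLib.Main
import Groth.Agent.NumTrivLib.Tau
import Groth.Agent.CycKSuppLib.Killed
import Groth.Agent.CubeConsLib.IsoCls
import Groth.Agent.BddFamLib.Ops

/-!
# Numerically trivial classes on projective schemes over algebraic extensions of finite fields
-/

set_option autoImplicit false
set_option linter.style.haveILetI false
set_option maxHeartbeats 1000000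
universe u

open CategoryTheory CategoryTheory.Limits AlgebraicGeometry TopologicalSpace Opposite
open HilbPolyLib DevissLib
open KFlatLib (pb)
open CubeConsLib (cl pull cl_eq_iff)

noncomputable section

namespace FpTorsLib

/-- Tensor products of modules killed by the ideal are killed. -/
theorem kil_tensor {Z Y : Scheme.{u}} (i : Z ⟶ Y) {M : Y.Modules} (N : Y.Modules) (hM : CycKSuppLib.Kil i M) :
    CycKSuppLib.Kil i (CohB1.tensorMod M N) := by
  refine ⟨fun x hx => hM.1 fun h => hx ?_, fun z r hr m => ?_⟩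
  · haveI : Subsingleton (M.presheaf.stalk x) := h
    exact Function.Surjective.subsingleton (KFlatLib.stalkTensorLin_bijective M N x).2
  · obtain ⟨t, rfl⟩ := (KFlatLib.stalkTensorLin_bijective M N (i z)).2 m
    refine ((KFlatLib.stalkTensorLin M N (i z)).map_smul r t).symm.trans ?_
    have : r • t = 0 := by
      induction t with
      | zero => exact smul_zero _
      | add a b ha hb => rw [smul_add, ha, hb, add_zero]
      | tmul a b =>
        rw [TensorProduct.smul_tmul', show r • a = 0 from hM.2 z r hr a, TensorProduct.zero_tmul]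
    rw [this, map_zero]
    rfl

/-- Direct images along closed immersions commute with tensor products. -/
theorem nonempty_push_tensor_push {Z Y : Scheme.{u}} (i : Z ⟶ Y) [IsClosedImmersion i] (A B : Z.Modules) :
    Nonempty (CohB1.tensorMod ((Coh.push i).obj A) ((Coh.push i).obj B) ≅ (Coh.push i).obj (CohB1.tensorMod A B)) := by
  have hk := (kil_tensor i ((Coh.push i).obj B) (CycKSuppLib.kil_push i A)).killed
  have h1 := DevissLib.isIso_unit_of_killed i hk
  have h2 := KFlatLib.isIso_pullθ i ((Coh.push i).obj A) ((Coh.push i).obj B)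
  exact ⟨@asIso _ _ _ _ _ h1 ≪≫ (Coh.push i).mapIso (@asIso _ _ _ _ _ h2 ≪≫
      congrLeft (CycKSuppLib.pullPushIso i A) _ ≪≫ congrRight A (CycKSuppLib.pullPushIso i B))⟩

/-- Powers of a direct image. -/
theorem nonempty_pow_push {Z Y : Scheme.{u}} (i : Z ⟶ Y) [IsClosedImmersion i] (L : Z.Modules) :
    ∀ a : ℕ, Nonempty (CohB1.tensorPow ((Coh.push i).obj L) (a + 1) ≅ (Coh.push i).obj (CohB1.tensorPow L (a + 1)))
  | 0 => ⟨unitLeft _ ≪≫ (Coh.push i).mapIso (unitLeft L).symm⟩
  | a + 1 => by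
    obtain ⟨e⟩ := nonempty_pow_push i L a
    obtain ⟨e'⟩ := nonempty_push_tensor_push i (CohB1.tensorPow L (a + 1)) L
    exact ⟨congrLeft e _ ≪≫ e'⟩

/-- Numerically trivial modules on a projective scheme have finite order. -/
theorem exists_pow_trivial_proj (p : ℕ) [Fact p.Prime] (k : Type u) [Field k] [IsAlgClosed k] [CharP k p]
    (halg : ∀ x : k, ∃ n : ℕ, 0 < n ∧ x ^ (p ^ n) = x) {X : Scheme.{u}} [X.Over (Spec (CommRingCat.of k))]
    [IsProper (X ↘ Spec (CommRingCat.of k))] {n : ℕ} (i : X ⟶ CohB1.ProjSpace n k) [IsClosedImmersion i]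
    (hi : i ≫ CohB1.ProjSpace.toSpec n k = X ↘ Spec (CommRingCat.of k)) {L : X.Modules} (hL : NumTrivLib.NT k L) :
    ∃ d : ℕ, 0 < d ∧ Nonempty (CohB1.tensorPow L d ≅ Coh.structureModule X) := by
  haveI := MumfordLib.isProper_projSpace (n := n) k
  haveI := CurvLib.isNoetherian k (X := X)
  let O := Coh.structureModule X
  have hO : Coh.IsCoh O := DevissLib.isCoh_structureModule X
  obtain ⟨D, hD⟩ := HilbPolyLib.exists_dim_lt k (X := X)
  obtain ⟨hI, hG⟩ := NumTrivLib.good_all i hi D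
  have hsup : ∀ F : X.Modules, topologicalKrullDim (CohB1.support F) < (D : ℕ) := fun F =>
    (topologicalKrullDim_subspace_le _ _).trans_lt hD
  obtain ⟨m, hm⟩ := (hG O hO (hsup O)).van
  let F := (Coh.push i).obj L
  have hF : Coh.IsCoh F := NumTrivLib.isCoh_push k i (CurvLib.isCoh_of_isInvertible hL.inv)
  obtain ⟨k₀, _, _, _, g, G, hg, hd, hGc, ⟨eG⟩⟩ := exists_finite_model p k n halg F hF
  haveI := MumfordLib.isProper_projSpace (n := n) k₀
  -- the powers
  let G' : ℕ → (CohB1.ProjSpace n k₀).Modules := fun a => CohB1.tensorPow G (a + 1)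
  let T : ℕ → X.Modules := fun a => CohB1.tensorPow L (a + 1)
  have hpg : ∀ a, Nonempty ((Scheme.Modules.pullback g).obj (G' a) ≅ (Coh.push i).obj (T a)) := fun a => by
    obtain ⟨e⟩ := nonempty_pow_push i L a
    refine cl_eq_iff.1 ?_
    rw [← cl_eq_iff.2 ⟨e⟩, ← CubeConsLib.pull_cl]
    simp only [G', NumTrivLib.cl_tensorPow, map_pow]
    rw [CubeConsLib.pull_cl, cl_eq_iff.2 ⟨eG⟩]
  have hG'c : ∀ a, Coh.IsCoh (G' a) := fun a => by
    induction a with
    | zero => exact QCohLib.isCoh_of_iso (unitLeft G).symm hGc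
    | succ a ih => exact BddFamLib.isCoh_tensorMod ih hGc
  have hrank : ∀ a t q, Module.finrank k₀ (Coh.HH (CohB1.ProjSpace n k₀)
      (CohB1.tensorMod (G' a) (Twist.twistProjSpace n k₀ t)) q) = NumTrivLib.hq k i (T a) q t := fun a t q => by
    rw [← MumfordLib.finrank_field k₀ g hg hd (G' a) (hG'c a) t q]
    exact (CurvLib.hIso (k := k) (congrLeft (hpg a).some _) q).finrank_eq
  have hTnt : ∀ a, NumTrivLib.NT k (T a) := fun a => hL.pow (a + 1)
  have hreg : ∀ a, Curv2.IsMRegular k₀ n (G' a) m := fun a q hq _ => by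
    haveI := PnCohLib.finite_twist k₀ (G' a) (hG'c a) (m - q) q
    refine (Module.finrank_zero_iff (R := k₀)).1 ?_
    rw [hrank]
    haveI : Subsingleton (Coh.HH (CohB1.ProjSpace n k) (NumTrivLib.tw k i (T a) (m - q)) q) :=
      SerreVanLib.subsingleton_HH_of_iso
        (congrLeft ((Coh.push i).mapIso ((swapIso (T a) O ≪≫ unitLeft (T a)).symm)) _) q (hm (T a) (hTnt a) q hq _ le_rfl)
    exact Module.finrank_zero_of_subsingleton
  let γ : ℤ → ℤ := fun t => Curv2.euler k (CohB1.ProjSpace n k) (NumTrivLib.tw k i O t)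
  have hχ : ∀ a t, Curv2.euler k₀ (CohB1.ProjSpace n k₀)
      (CohB1.tensorMod (G' a) (Twist.twistProjSpace n k₀ t)) = γ t := fun a t => by
    have h1 : Curv2.euler k₀ (CohB1.ProjSpace n k₀) (CohB1.tensorMod (G' a) (Twist.twistProjSpace n k₀ t)) =
        Curv2.euler k (CohB1.ProjSpace n k) (NumTrivLib.tw k i (T a) t) := by
      rw [← MumfordLib.chi_eq_euler, ← MumfordLib.chi_eq_euler]
      unfold MumfordLib.chi FGA.eulerCharLE
      exact Finset.sum_congr rfl fun q _ => by rw [hrank a t q]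
    rw [h1]
    let A := pb i (Twist.twistProjSpace n k t)
    have hA : PicF.IsInvertible A := AmpleDevLib.isInvertible_pb i (PicPnLib.twist_inv n k t)
    have hAO : Coh.IsCoh (CohB1.tensorMod A O) := isCoh_tensor hA hO
    have hAT : Coh.IsCoh (CohB1.tensorMod A (T a)) := isCoh_tensor hA (CurvLib.isCoh_of_isInvertible (hTnt a).inv)
    haveI := hAO.1
    haveI := hAT.1
    obtain ⟨e⟩ := NumTrivLib.nonempty_tw_push i (T a) t
    obtain ⟨e₀⟩ := NumTrivLib.nonempty_tw_push i O t
    have h0 := sub_eq_zero.mp (hI (T a) (hTnt a) _ hAO (hsup _))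
    simp only [γ]
    rw [CurvLib.euler_congr (k := k) e, CurvLib.euler_congr (k := k) e₀,
      ← (PushLinLib.euler_push k i hi (CohB1.tensorMod A (T a))).2, ← (PushLinLib.euler_push k i hi (CohB1.tensorMod A O)).2,
      ← h0]
    exact CurvLib.euler_congr (congrRight A (swapIso (T a) O ≪≫ unitLeft (T a)).symm ≪≫ leftComm A (T a) O)
  obtain ⟨c, P', hP', Q, hQ⟩ := exists_finite_params (k := k₀) (n := n) m γ
  choose φ hφ using fun a => hQ (G' a) (hG'c a) (hreg a) (hχ a)
  obtain ⟨a, b, hab, he⟩ := Finite.exists_ne_map_eq_of_infinite φ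
  obtain ⟨a, b, hlt, he⟩ : ∃ a b, a < b ∧ φ a = φ b := by
    rcases lt_or_gt_of_ne hab with h | h
    · exact ⟨a, b, h, he⟩
    · exact ⟨b, a, h, he.symm⟩
  -- cancel the twist
  have hGG : cl (G' a) = cl (G' b) := by
    have h1 : cl (G' a) * cl (Twist.twistProjSpace n k₀ c) = cl (G' b) * cl (Twist.twistProjSpace n k₀ c) := by
      rw [← CubeConsLib.cl_tensor, ← CubeConsLib.cl_tensor]
      exact cl_eq_iff.2 ⟨(hφ a).some ≪≫ eqToIso (by rw [he]) ≪≫ (hφ b).some.symm⟩
    obtain ⟨d, hd'⟩ := CubeConsLib.exists_inverse (PicPnLib.twist_inv n k₀ c)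
    simpa only [mul_assoc, hd', mul_one] using congrArg (· * d) h1
  have hTT : cl (T a) = cl (T b) := by
    have h1 : cl ((Coh.push i).obj (T a)) = cl ((Coh.push i).obj (T b)) := by
      rw [← cl_eq_iff.2 (hpg a), ← cl_eq_iff.2 (hpg b), ← CubeConsLib.pull_cl, ← CubeConsLib.pull_cl, hGG]
    have h2 := congrArg (pull i) h1
    rwa [CubeConsLib.pull_cl, CubeConsLib.pull_cl, cl_eq_iff.2 ⟨CycKSuppLib.pullPushIso i (T a)⟩,
      cl_eq_iff.2 ⟨CycKSuppLib.pullPushIso i (T b)⟩] at h2
  refine ⟨b - a, Nat.sub_pos_of_lt hlt, CubeConsLib.cl_eq_one_iff.1 ?_⟩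
  obtain ⟨d, hd'⟩ := CubeConsLib.exists_inverse hL.inv
  simp only [T, NumTrivLib.cl_tensorPow] at hTT ⊢
  have hb : b + 1 = (a + 1) + (b - a) := by omega
  rw [hb, pow_add (cl L) (a + 1) (b - a)] at hTT
  have h3 := congrArg (· * d ^ (a + 1)) hTT
  simp only [mul_right_comm _ (cl L ^ (b - a)), ← mul_pow, hd', one_pow, one_mul] at h3
  exact h3.symm

end FpTorsLib

end
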